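import Cfsg.Agent.OddHalf.Table.Iface17
import Cfsg.Agent.Prune
set_option linter.all false
prune_inst 0x7f00000000000000000000000000000000000000000000000000000000000000000000000000000000000000000000000000000000000000000000000000000000000000000000000000000000000000003fffffffffffffffffffffffffffbeffbdffffffff
open scoped Cfsg.Agent.FastGrp

/-!
# TABLE-17: signs of outer involutory automorphisms, basic lemmas

`os_of_normal`, `os_of_card_le`: two criteria for `OutSign X`.
-/

set_option autoImplicit false

namespace Cfsg.Agent.OddHalf.Table.OutBasic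

/-- the sign of a subgroup of index two -/
theorem exists_sign {A : Type*} [Group A] {N : Subgroup A} (hN : N.index = 2) :
    ∃ f : A →* ℤˣ, (∀ g ∈ N, f g = 1) ∧ ∀ g, g ∉ N → f g = -1 := by
  classical
  refine ⟨{ toFun := fun g => if g ∈ N then 1 else -1, map_one' := if_pos (one_mem _), map_mul' := ?_ },
    fun g hg => if_pos hg, fun g hg => if_neg hg⟩
  intro a b
  have h := Subgroup.mul_mem_iff_of_index_two hN (a := a) (b := b)
  by_cases ha : a ∈ N <;> by_cases hb : b ∈ N <;> simp [h, ha, hb]

/-- a normal subgroup `N` containing the inner automorphisms, with `MulAut X / N` of order at most 2 and without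
outer involutory automorphisms -/
theorem os_of_normal {X : Type*} [Group X] (N : Subgroup (MulAut X)) (hi : ∀ l, MulAut.conj l ∈ N)
    (h2 : ∀ a b : MulAut X, a ∉ N → b ∉ N → a * b ∈ N)
    (hN : ∀ α ∈ N, α * α = 1 → ∃ l, α = MulAut.conj l) : OutSign X := by
  intro α h1 ho
  have hα : α ∉ N := fun h => by
    obtain ⟨l, hl⟩ := hN α h h1
    exact ho l hl
  have hidx : N.index = 2 := by
    rw [Subgroup.index_eq_two_iff]
    refine ⟨α, fun b => ?_⟩
    by_cases hb : b ∈ N
    · refine Or.inr ⟨hb, fun h => hα ?_⟩
      have h3 := N.mul_mem (N.inv_mem hb) h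
      rwa [inv_mul_cancel_left] at h3
    · exact Or.inl ⟨h2 b α hb hα, hb⟩
  obtain ⟨f, h3, h4⟩ := exists_sign hidx
  exact ⟨f, fun l => h3 _ (hi l), h4 _ hα⟩

/-- the inner automorphisms have index at most two -/
theorem os_of_card_le {X : Type*} [Group X] [Finite X] (hc : Subgroup.center X = ⊥)
    (h : Nat.card (MulAut X) ≤ 2 * Nat.card X) : OutSign X := by
  have hfin : Finite (MulAut X) := inferInstance
  have hcard : Nat.card (MulAut.conj : X →* MulAut X).range = Nat.card X := by
    have hinj : Function.Injective (MulAut.conj : X →* MulAut X) := by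
      rw [← MonoidHom.ker_eq_bot_iff, eq_bot_iff]
      intro x hx
      rw [← hc, Subgroup.mem_center_iff]
      intro y
      have h1 : (MulAut.conj x : MulAut X) y = y := by rw [MonoidHom.mem_ker.1 hx]; rfl
      rw [MulAut.conj_apply, mul_inv_eq_iff_eq_mul] at h1
      exact h1.symm
    exact (Nat.card_congr (MonoidHom.ofInjective hinj).toEquiv).symm
  have h1 := Subgroup.card_mul_index (MulAut.conj : X →* MulAut X).range
  rw [hcard] at h1
  have hpos : 0 < Nat.card X := Nat.card_pos
  have hle : (MulAut.conj : X →* MulAut X).range.index ≤ 2 := by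
    rw [← h1, mul_comm] at h
    exact Nat.le_of_mul_le_mul_right h hpos
  refine os_of_normal (MulAut.conj : X →* MulAut X).range (fun l => ⟨l, rfl⟩) ?_ (fun α hα _ => ?_)
  · intro a b ha hb
    have h2 : (MulAut.conj : X →* MulAut X).range.index = 2 := by
      have h3 : (MulAut.conj : X →* MulAut X).range.index ≠ 0 := Subgroup.index_ne_zero_of_finite
      have h4 : (MulAut.conj : X →* MulAut X).range.index ≠ 1 := by
        rw [Ne, Subgroup.index_eq_one]
        intro h5
        exact ha (h5 ▸ Subgroup.mem_top a)
      omega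
    rw [Subgroup.mul_mem_iff_of_index_two h2]
    simp [ha, hb]
  · obtain ⟨l, hl⟩ := hα
    exact ⟨l, hl.symm⟩

/-- the center of a finite simple group of composite order -/
theorem center_eq_bot {X : Type*} [Group X] [Finite X] [hs : IsSimpleGroup X] (h : ¬ (Nat.card X).Prime) :
    Subgroup.center X = ⊥ := by
  rcases (inferInstance : (Subgroup.center X).Normal).eq_bot_or_eq_top with h1 | h1
  · exact h1
  · exfalso
    let I : CommGroup X := { (inferInstance : Group X) with
      mul_comm := fun a b => (Subgroup.mem_center_iff.1 (h1 ▸ Subgroup.mem_top b : b ∈ Subgroup.center X) a) }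
    exact h (@IsSimpleGroup.prime_card X I hs)

end Cfsg.Agent.OddHalf.Table.OutBasic
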