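import Cfsg.Agent.CoThreeStd.OutAut
import Cfsg.Agent.OddHalf.Table.Iface17
set_option linter.all false

/-!
# The automorphism group of the Mathieu group of degree 12 (S1765, TABLE-17; helper441)

`alpha` = conjugation by an involution of `M24` exchanging the two dodecads (`CoThreeStd.OutAut`). Every
automorphism of `M12` is inner or `alpha` times an inner one.
-/

set_option autoImplicit false
open scoped Pointwise
open Cfsg

namespace Cfsg.Agent.OddHalf.Table.OutMTwelve

open Cfsg.Agent.CoThreeStd.MTwelve Cfsg.Agent.CoThreeStd.OutAut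
open Cfsg.Agent.CoThreeStd.DeltaData (mem_cbe cbe)

/-! ### automorphisms and centralisers -/

theorem card_cent_map {G : Type*} [Group G] (φ : MulAut G) (x : G) :
    Nat.card (Subgroup.centralizer {φ x} : Subgroup G) = Nat.card (Subgroup.centralizer {x} : Subgroup G) := by
  apply Nat.card_congr
  refine (Equiv.subtypeEquiv φ.toEquiv ?_).symm
  intro a
  show a ∈ Subgroup.centralizer {x} ↔ φ a ∈ Subgroup.centralizer {φ x}
  rw [Subgroup.mem_centralizer_singleton_iff, Subgroup.mem_centralizer_singleton_iff, ← map_mul, ← map_mul]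
  exact φ.injective.eq_iff.symm

theorem exists_fix_y (φ : MulAut H) : ∃ g : H, φ y = g * y * g⁻¹ := by
  rcases inv_class (φ y) (fun h => y_ne_one (φ.injective (h.trans (map_one φ).symm)))
    (by rw [← map_mul, y_sq, map_one]) with ⟨m, hm⟩ | ⟨m, hm⟩
  · exact ⟨m⁻¹, by rw [← hm, inv_inv]⟩
  · exfalso
    have h1 := card_cent_map φ y
    have h2 := card_cent_map (MulAut.conj m⁻¹) (p * r)
    rw [MulAut.conj_apply, inv_inv, hm, card_cent_v] at h2
    rw [h2, card_cent_y] at h1
    omega

/-! ### Coxeter generators of `S5` -/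

/-- permutations of five letters -/
abbrev P5 : Type := Equiv.Perm (Fin 5)

/-- the braid relation for two different involutions -/
def Br (a b : P5) : Prop := a * b * a = b * a * b ∧ a ≠ b

/-- commuting -/
def Cm (a b : P5) : Prop := a * b = b * a

instance (a b : P5) : Decidable (Br a b) := inferInstanceAs (Decidable (_ ∧ _))
instance (a b : P5) : Decidable (Cm a b) := inferInstanceAs (Decidable (_ = _))

/-- conjugate to the standard generators -/
def R5 (a b c d : P5) : Prop := ∃ τ : P5, τ * Equiv.swap 0 1 = a * τ ∧ τ * Equiv.swap 1 2 = b * τ ∧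
      τ * Equiv.swap 2 3 = c * τ ∧ τ * Equiv.swap 3 4 = d * τ

instance (a b c d : P5) : Decidable (R5 a b c d) := by unfold R5; infer_instance

/-- step four -/
def R4 (a b c : P5) : Prop := ∀ d : P5, d * d = 1 → Br c d → Cm a d → Cm b d → R5 a b c d

instance (a b c : P5) : Decidable (R4 a b c) := by unfold R4; infer_instance

/-- step three -/
def R3 (a b : P5) : Prop := ∀ c : P5, c * c = 1 → Br b c → Cm a c → a ≠ c → R4 a b c

instance (a b : P5) : Decidable (R3 a b) := by unfold R3; infer_instance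

/-- step two -/
def R2 (a : P5) : Prop := ∀ b : P5, b * b = 1 → Br a b → R3 a b

instance (a : P5) : Decidable (R2 a) := by unfold R2; infer_instance

set_option maxRecDepth 100000 in
theorem cox_std : ∀ a : P5, a * a = 1 → R2 a := by
  decide +kernel

/-! ### the action on `C(y)` -/

theorem yw_mul (a b : Bool) (σ τ : P5) : yw (a, σ) * yw (b, τ) = yw (xor a b, σ * τ) := by
  have h1 := y_comm σ
  have h2 := y_sq
  cases a <;> cases b <;>
    simp only [yw, if_true, one_mul, Bool.false_eq_true, if_false, map_mul, Bool.false_xor, Bool.true_xor,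
      Bool.not_true, Bool.not_false]
  · rw [← mul_assoc, ← h1, mul_assoc]
  · rw [mul_assoc]
  · calc y * w σ * (y * w τ) = y * (w σ * y) * w τ := by group
      _ = w σ * w τ := by rw [← h1, ← mul_assoc, h2, one_mul]

theorem yw_false_one : yw (false, 1) = 1 := by simp [yw]
theorem yw_true_one : yw (true, 1) = y := by simp [yw]

theorem yw_false (σ : P5) : yw (false, σ) = w σ := by simp [yw]
theorem yw_true (σ : P5) : yw (true, σ) = y * w σ := by simp [yw]

theorem exists_yw (φ : MulAut H) (hy : φ y = y) (σ : P5) : ∃ e : Bool, ∃ τ : P5, φ (w σ) = yw (e, τ) := by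
  obtain ⟨τ, h | h⟩ := cent_y (φ (w σ)) (by
    conv_lhs => rw [← hy]
    conv_rhs => rw [← hy]
    rw [← map_mul, ← map_mul, y_comm])
  · exact ⟨false, τ, by rw [yw_false, h]⟩
  · exact ⟨true, τ, by rw [yw_true, h]⟩

/-- the generators of `M12` fixed by `φ` -/
def Fix5 (φ : MulAut H) : Prop := φ y = y ∧ φ p = p ∧ φ q = q ∧ φ r = r ∧ φ s = s

/-- the generators multiplied by `y` -/
def Tw5 (φ : MulAut H) : Prop := φ y = y ∧ φ p = y * p ∧ φ q = y * q ∧ φ r = y * r ∧ φ s = y * s

theorem exists_std (φ : MulAut H) (hy : φ y = y) : ∃ g : H, Fix5 (MulAut.conj g * φ) ∨ Tw5 (MulAut.conj g * φ) := by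
  choose e f hf using exists_yw φ hy
  have key : ∀ σ τ : P5, e (σ * τ) = xor (e σ) (e τ) ∧ f (σ * τ) = f σ * f τ := by
    intro σ τ
    have h1 : φ (w (σ * τ)) = yw (e σ, f σ) * yw (e τ, f τ) := by rw [map_mul, map_mul, hf, hf]
    rw [hf, yw_mul] at h1
    have h2 := yw_injective h1
    rw [Prod.mk.injEq] at h2
    exact h2
  have hone : f 1 = 1 := by
    have := (key 1 1).2
    rw [one_mul] at this
    exact (left_eq_mul.mp this)
  have hinj1 : ∀ σ : P5, f σ = 1 → σ = 1 := by
    intro σ h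
    have h1 := hf σ
    rw [h] at h1
    cases he : e σ
    · rw [he, yw_false_one] at h1
      apply w_injective
      rw [map_one]
      exact φ.injective (h1.trans (map_one φ).symm)
    · rw [he, yw_true_one] at h1
      exact absurd (φ.injective (hy.trans h1.symm)) (y_ne_w σ)
  have hne : ∀ σ τ : P5, σ ≠ τ → f σ ≠ f τ := by
    intro σ τ h h1
    apply h
    have h2 : f (σ * τ⁻¹) = 1 := by
      have h3 := (key (σ * τ⁻¹) τ).2
      rw [inv_mul_cancel_right, h1] at h3
      exact (right_eq_mul.mp h3)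
    have := hinj1 _ h2
    exact mul_inv_eq_one.mp this
  set a := f (Equiv.swap 0 1) with ha
  set b := f (Equiv.swap 1 2) with hb
  set c := f (Equiv.swap 2 3) with hc
  set d := f (Equiv.swap 3 4) with hd
  have hsq : ∀ i j : Fin 5, f (Equiv.swap i j) * f (Equiv.swap i j) = 1 := by
    intro i j
    rw [← (key _ _).2, Equiv.swap_mul_self, hone]
  have hbr : ∀ σ τ : P5, σ * τ * σ = τ * σ * τ → f σ * f τ * f σ = f τ * f σ * f τ ∧ e σ = e τ := by
    intro σ τ h
    constructor
    · rw [← (key _ _).2, ← (key _ _).2, ← (key _ _).2, ← (key _ _).2, h]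
    · have h1 := congrArg e h
      rw [(key _ _).1, (key _ _).1, (key _ _).1, (key _ _).1] at h1
      revert h1
      cases e σ <;> cases e τ <;> decide
  have hcm : ∀ σ τ : P5, σ * τ = τ * σ → f σ * f τ = f τ * f σ := by
    intro σ τ h
    rw [← (key _ _).2, ← (key _ _).2, h]
  have b01 := hbr (Equiv.swap 0 1) (Equiv.swap 1 2) (by decide +kernel)
  have b12 := hbr (Equiv.swap 1 2) (Equiv.swap 2 3) (by decide +kernel)
  have b23 := hbr (Equiv.swap 2 3) (Equiv.swap 3 4) (by decide +kernel)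
  obtain ⟨τ, h1, h2, h3, h4⟩ := cox_std a (hsq 0 1) b (hsq 1 2)
    ⟨b01.1, hne _ _ (by decide +kernel)⟩ c (hsq 2 3)
    ⟨b12.1, hne _ _ (by decide +kernel)⟩
    (hcm _ _ (by decide +kernel)) (hne _ _ (by decide +kernel)) d (hsq 3 4)
    ⟨b23.1, hne _ _ (by decide +kernel)⟩
    (hcm _ _ (by decide +kernel)) (hcm _ _ (by decide +kernel))
  have hconj : ∀ σ : P5, ∀ x : P5, τ * σ = x * τ → f σ = x → 
      (MulAut.conj (w τ⁻¹) * φ) (w σ) = yw (e σ, σ) := by
    intro σ x hx hfx
    rw [MulAut.mul_apply, MulAut.conj_apply, hf, hfx]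
    have h5 : w τ⁻¹ = yw (false, τ⁻¹) := (yw_false _).symm
    have h6 : (w τ⁻¹)⁻¹ = yw (false, τ) := by rw [yw_false, map_inv, inv_inv]
    rw [h6, h5, yw_mul, yw_mul]
    congr 1
    rw [Prod.mk.injEq]
    constructor
    · cases e σ <;> rfl
    · rw [mul_assoc, ← hx, inv_mul_cancel_left]
  have hy' : (MulAut.conj (w τ⁻¹) * φ) y = y := by
    rw [MulAut.mul_apply, MulAut.conj_apply, hy, ← y_comm, mul_inv_cancel_right]
  have k1 := hconj _ _ h1 rfl
  have k2 := hconj _ _ h2 rfl
  have k3 := hconj _ _ h3 rfl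
  have k4 := hconj _ _ h4 rfl
  rw [← b01.2] at b12
  rw [← b12.2] at b23
  rw [w_p] at k1
  rw [w_q, ← b01.2] at k2
  rw [w_r, ← b12.2] at k3
  rw [w_s, ← b23.2] at k4
  refine ⟨w τ⁻¹, ?_⟩
  cases he : e (Equiv.swap 0 1)
  · left
    rw [he, yw_false] at k1 k2 k3 k4
    rw [w_p] at k1
    rw [w_q] at k2
    rw [w_r] at k3
    rw [w_s] at k4
    exact ⟨hy', k1, k2, k3, k4⟩
  · right
    rw [he, yw_true] at k1 k2 k3 k4
    rw [w_p] at k1
    rw [w_q] at k2
    rw [w_r] at k3
    rw [w_s] at k4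
    exact ⟨hy', k1, k2, k3, k4⟩

/-! ### the last generator -/

/-- the test for one element of `C(pr)` -/
def tst (l : List ℕ) : Bool :=
  !(eqW (l ++ l) []) || !(eqW (wpow (l ++ [0, 4]) 8) []) || !(eqW (wpow (l ++ [2, 4]) 5) []) ||
    eqW l [5, 2, 4, 5] || eqW l [0, 5, 2, 4, 5, 0]

set_option maxRecDepth 100000 in
theorem tst_all : cbe.all tst = true := by decide +kernel

theorem ext_gen {φ ψ : MulAut H} (hy : φ y = ψ y) (hp : φ p = ψ p) (hq : φ q = ψ q) (hr : φ r = ψ r)
    (hs : φ s = ψ s) (hb : φ b = ψ b) : φ = ψ := by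
  have h := MonoidHom.eq_of_eqOn_dense (f := φ.toMonoidHom) (g := ψ.toMonoidHom) closure_gen (by
    rintro x (rfl | rfl | rfl | rfl | rfl | rfl)
    exacts [hy, hp, hq, hr, hs, hb])
  exact MulEquiv.ext (fun x => DFunLike.congr_fun h x)

theorem wm0 : wd [5, 2, 4, 5] = b * q * s * b := by simp [wd, gen, mul_assoc]

theorem b_eq : b = (b * q * s * b) * q * (b * q * s * b) * s * (b * q * s * b) * q * (b * q * s * b) := by
  have h : eqW [5] [5,2,4,5,2,5,2,4,5,4,5,2,4,5,2,5,2,4,5] = true := by decide +kernel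
  have h1 := wd_eq h
  simpa [wd, gen, mul_assoc] using h1

theorem pr_comm : (b * q * s * b) * (p * r) = (p * r) * (b * q * s * b) := by
  have h : eqW [5,2,4,5,1,3] [1,3,5,2,4,5] = true := by decide +kernel
  have h1 := wd_eq h
  simpa [wd, gen, mul_assoc] using h1

theorem sq0 : (b * q * s * b) * (b * q * s * b) = 1 := by
  have h : eqW [5,2,4,5,5,2,4,5] [] = true := by decide +kernel
  have h1 := wd_eq h
  simpa [wd, gen, mul_assoc] using h1

theorem rel8 : ((b * q * s * b) * (y * s)) ^ 8 = 1 := by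
  have h : eqW (wpow ([5,2,4,5] ++ [0,4]) 8) [] = true := by decide +kernel
  have h1 := wd_eq h
  rw [wd_wpow, wd_append, wm0, wd_nil] at h1
  simpa [wd, gen] using h1

theorem rel5 : ((b * q * s * b) * (q * s)) ^ 5 = 1 := by
  have h : eqW (wpow ([5,2,4,5] ++ [2,4]) 5) [] = true := by decide +kernel
  have h1 := wd_eq h
  rw [wd_wpow, wd_append, wm0, wd_nil] at h1
  simpa [wd, gen] using h1

theorem of_fix5 (φ : MulAut H) (h : Fix5 φ) : φ = 1 ∨ φ = MulAut.conj y := by
  obtain ⟨hy, hp, hq, hr, hs⟩ := h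
  set m := φ (b * q * s * b) with hm
  have hc : m * (p * r) = (p * r) * m := by
    have h1 := congrArg φ pr_comm
    rw [map_mul, map_mul (f := φ) (p * r), map_mul (f := φ) p, hp, hr] at h1
    exact h1
  obtain ⟨l, hl, hlm⟩ := mem_cbe m hc
  have h1 : m * m = 1 := by rw [hm, ← map_mul, sq0, map_one]
  have h2 : (m * (y * s)) ^ 8 = 1 := by
    have := congrArg φ rel8
    rwa [map_pow, map_mul, map_mul (f := φ) y, hy, hs, map_one] at this
  have h3 : (m * (q * s)) ^ 5 = 1 := by
    have := congrArg φ rel5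
    rwa [map_pow, map_mul, map_mul (f := φ) q, hq, hs, map_one] at this
  have h4 := List.all_eq_true.mp tst_all l hl
  have w04 : wd [0, 4] = y * s := by simp [wd, gen]
  have w24 : wd [2, 4] = q * s := by simp [wd, gen]
  rw [tst, eqW_of_wd (l := l ++ l) (l' := []) (by rw [wd_append, hlm, h1, wd_nil]),
    eqW_of_wd (l := wpow (l ++ [0, 4]) 8) (l' := []) (by rw [wd_wpow, wd_append, w04, hlm, h2, wd_nil]),
    eqW_of_wd (l := wpow (l ++ [2, 4]) 5) (l' := []) (by rw [wd_wpow, wd_append, w24, hlm, h3, wd_nil])] at h4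
  have hb : φ b = m * q * m * s * m * q * m := by
    have key : ∀ M : H, b = M * q * M * s * M * q * M →
        φ b = φ M * q * φ M * s * φ M * q * φ M := by
      intro M hM
      have h5 := congrArg φ hM
      simpa only [map_mul, hq, hs] using h5
    exact key _ b_eq
  have h5 : eqW l [5, 2, 4, 5] = true ∨ eqW l [0, 5, 2, 4, 5, 0] = true := by
    simpa using h4
  rcases h5 with h5 | h5
  · left
    have h6 := wd_eq h5
    rw [hlm, wm0] at h6
    refine ext_gen hy hp hq hr hs ?_
    rw [hb, h6]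
    exact b_eq.symm
  · right
    have h6 := wd_eq h5
    have h7 : wd [0, 5, 2, 4, 5, 0] = y * (b * q * s * b) * y := by simp [wd, gen, mul_assoc]
    rw [hlm, h7] at h6
    have hyp : y * p = p * y := by rw [← w_p]; exact y_comm _
    have hyq : y * q = q * y := by rw [← w_q]; exact y_comm _
    have hyr : y * r = r * y := by rw [← w_r]; exact y_comm _
    have hys : y * s = s * y := by rw [← w_s]; exact y_comm _
    have c1 : y * q * y = q := by rw [hyq, mul_assoc, y_sq, mul_one]
    have c2 : y * s * y = s := by rw [hys, mul_assoc, y_sq, mul_one]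
    have yi : y⁻¹ = y := inv_eq_of_mul_eq_one_left y_sq
    refine ext_gen ?_ ?_ ?_ ?_ ?_ ?_
    · rw [hy, MulAut.conj_apply, mul_inv_cancel_right]
    · rw [hp, MulAut.conj_apply, hyp, mul_inv_cancel_right]
    · rw [hq, MulAut.conj_apply, hyq, mul_inv_cancel_right]
    · rw [hr, MulAut.conj_apply, hyr, mul_inv_cancel_right]
    · rw [hs, MulAut.conj_apply, hys, mul_inv_cancel_right]
    · rw [hb, h6, MulAut.conj_apply, yi]
      have key : ∀ M : H, (y * M * y) * q * (y * M * y) * s * (y * M * y) * q * (y * M * y) =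
          y * (M * q * M * s * M * q * M) * y := by
        intro M
        calc _ = y * (M * (y * q * y) * M * (y * s * y) * M * (y * q * y) * M) * y := by
              simp only [mul_assoc]
          _ = _ := by rw [c1, c2]
      rw [key, ← b_eq]

/-- the outer automorphism -/
def al : MulAut H where
  toFun := alpha
  invFun := alpha
  left_inv := alpha_alpha
  right_inv := alpha_alpha
  map_mul' := map_mul alpha

theorem al_y : al y = y := alpha_y

theorem al_gen (i : ℕ) (l : List ℕ) (h : eqW (ag i) l = true) : al (gen i) = wd l :=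
  (alpha_gen i).trans (wd_eq h)

/-- **`Aut(M12) = M12 ∪ alpha M12`.** -/
theorem mem_or_mem (φ : MulAut H) :
    φ ∈ (MulAut.conj : H →* MulAut H).range ∨ al * φ ∈ (MulAut.conj : H →* MulAut H).range := by
  obtain ⟨g, hg⟩ := exists_fix_y φ
  have h1 : (MulAut.conj g⁻¹ * φ) y = y := by
    rw [MulAut.mul_apply, MulAut.conj_apply, hg]
    group
  obtain ⟨g', h2 | h2⟩ := exists_std _ h1
  · left
    rcases of_fix5 _ h2 with h3 | h3
    · rw [← mul_assoc, ← map_mul, mul_eq_one_iff_inv_eq] at h3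
      exact ⟨(g' * g⁻¹)⁻¹, by rw [map_inv, h3]⟩
    · rw [← mul_assoc, ← map_mul, ← eq_inv_mul_iff_mul_eq, ← map_inv, ← map_mul] at h3
      exact ⟨_, h3.symm⟩
  · right
    obtain ⟨hy, hp, hq, hr, hs⟩ := h2
    set ψ := MulAut.conj g' * (MulAut.conj g⁻¹ * φ) with hψ
    have yi : y⁻¹ = y := inv_eq_of_mul_eq_one_left y_sq
    have e1 : al p = y * p := (al_gen 1 [0, 1] (by decide +kernel)).trans (by simp [wd, gen])
    have e2 : al q = y * q := (al_gen 2 [0, 2] (by decide +kernel)).trans (by simp [wd, gen])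
    have e3 : al r = y * r := (al_gen 3 [0, 3] (by decide +kernel)).trans (by simp [wd, gen])
    have e4 : al s = y * s := (al_gen 4 [0, 4] (by decide +kernel)).trans (by simp [wd, gen])
    have hF : Fix5 (al * ψ) := by
      refine ⟨?_, ?_, ?_, ?_, ?_⟩
      · rw [MulAut.mul_apply, hy, al_y]
      · rw [MulAut.mul_apply, hp, map_mul, al_y, e1, ← mul_assoc, y_sq, one_mul]
      · rw [MulAut.mul_apply, hq, map_mul, al_y, e2, ← mul_assoc, y_sq, one_mul]
      · rw [MulAut.mul_apply, hr, map_mul, al_y, e3, ← mul_assoc, y_sq, one_mul]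
      · rw [MulAut.mul_apply, hs, map_mul, al_y, e4, ← mul_assoc, y_sq, one_mul]
    have hin : al * ψ ∈ (MulAut.conj : H →* MulAut H).range := by
      rcases of_fix5 _ hF with h3 | h3
      · rw [h3]; exact one_mem _
      · rw [h3]; exact ⟨y, rfl⟩
    have hcj : ∀ x : H, al * MulAut.conj x = MulAut.conj (al x) * al := by
      intro x
      apply MulEquiv.ext
      intro z
      rw [MulAut.mul_apply, MulAut.mul_apply, MulAut.conj_apply, MulAut.conj_apply, map_mul, map_mul, map_inv]
    have e5 : al * ψ = MulAut.conj (al (g' * g⁻¹)) * (al * φ) := by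
      rw [hψ, ← mul_assoc (MulAut.conj g'), ← map_mul, ← mul_assoc, hcj, mul_assoc]
    rw [e5] at hin
    have hmem : MulAut.conj (al (g' * g⁻¹)) ∈ (MulAut.conj : H →* MulAut H).range := ⟨_, rfl⟩
    exact (Subgroup.mul_mem_cancel_left _ hmem).mp hin

theorem al_mul_al : al * al = 1 := MulEquiv.ext alpha_alpha

/-- **The row `M12` of TABLE-17.** -/
theorem outSign_M12 {X : Type*} [Group X] (e : X ≃* Spor.M12) : OutSign X := by
  refine OutSign.of_equiv e.symm (OutSign.of_mul_inner ?_)
  intro α β hα hβ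
  rcases mem_or_mem α with ⟨x, hx⟩ | ⟨x, hx⟩
  · exact absurd hx.symm (hα x)
  rcases mem_or_mem β with ⟨z, hz⟩ | ⟨z, hz⟩
  · exact absurd hz.symm (hβ z)
  have h1 : α = al * MulAut.conj x := by rw [hx, ← mul_assoc, al_mul_al, one_mul]
  have h2 : β = al * MulAut.conj z := by rw [hz, ← mul_assoc, al_mul_al, one_mul]
  refine ⟨al x * z, ?_⟩
  rw [h1, h2]
  apply MulEquiv.ext
  intro u
  simp only [MulAut.mul_apply, MulAut.conj_apply, map_mul, map_inv]
  have h3 : ∀ v : H, al (al v) = v := alpha_alpha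
  simp only [h3, mul_inv_rev, mul_assoc]

end Cfsg.Agent.OddHalf.Table.OutMTwelve
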